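import Mathlib

/-!
A normal subgroup `N` of `G` (given by an injective homomorphism `i : N →* G` with normal range)
all of whose noncentral elements have maximal centralizers in `G`.
-/

set_option autoImplicit false
set_option linter.style.haveILetI false

open scoped Pointwise

namespace CfsgLib.CentMaxNormal

variable {N G : Type*} [Group N] [Group G]

/-- The centralizer of an element. -/
abbrev cen {H : Type*} [Group H] (x : H) : Subgroup H := Subgroup.centralizer ({x} : Set H)

theorem mem_cen {H : Type*} [Group H] {x y : H} : y ∈ cen x ↔ y * x = x * y :=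
  Subgroup.mem_centralizer_singleton_iff

theorem mem_cen_comm {H : Type*} [Group H] {x y : H} : y ∈ cen x ↔ x ∈ cen y := by
  rw [mem_cen, mem_cen, eq_comm]

theorem self_mem_cen {H : Type*} [Group H] (x : H) : x ∈ cen x := mem_cen.mpr rfl

theorem center_le_cen {H : Type*} [Group H] (x : H) : Subgroup.center H ≤ cen x := fun z hz =>
  mem_cen.mpr (Subgroup.mem_center_iff.mp hz x).symm

theorem cen_le_cen_of_mem {H : Type*} [Group H] {x y : H} (h : y ∈ Subgroup.zpowers x) :
    cen x ≤ cen y := by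
  intro g hg
  obtain ⟨k, rfl⟩ := Subgroup.mem_zpowers_iff.mp h
  exact mem_cen.mpr (Commute.zpow_right (mem_cen.mp hg) k)

/-- A subgroup containing all prime-power elements of a cyclic group contains its generator. -/
theorem mem_of_prime_power_parts {H : Type*} [Group H] [Finite H] {m : H} {S : Subgroup H}
    (h : ∀ y ∈ Subgroup.zpowers m, ∀ r k : ℕ, r.Prime → orderOf y = r ^ k → y ∈ S) : m ∈ S := by
  have hle : Subgroup.zpowers m ≤ S := by
    have hd : Nat.card (Subgroup.zpowers m) ∣ Nat.card ↥(Subgroup.zpowers m ⊓ S) := by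
      rw [Nat.dvd_iff_prime_pow_dvd_dvd]
      intro r k hr hrk
      haveI := Fact.mk hr
      obtain ⟨R, hR⟩ := Sylow.exists_subgroup_card_pow_prime r hrk
      have hle : R.map (Subgroup.zpowers m).subtype ≤ Subgroup.zpowers m ⊓ S := by
        rintro _ ⟨y, hy, rfl⟩
        refine ⟨y.2, ?_⟩
        obtain ⟨j, hj⟩ := IsPGroup.iff_orderOf.mp (IsPGroup.of_card hR) ⟨y, hy⟩
        refine h _ y.2 r j hr ?_
        rw [← hj, ← Subgroup.orderOf_coe]
        exact Subgroup.orderOf_coe y
      have := Subgroup.card_dvd_of_le hle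
      rwa [Subgroup.card_map_of_injective (Subgroup.subtype_injective _), hR] at this
    exact inf_eq_left.mp
      (Subgroup.eq_of_le_of_card_ge inf_le_left (Nat.le_of_dvd Nat.card_pos hd))
  exact hle (Subgroup.mem_zpowers m)

theorem mem_zpowers_mul {H : Type*} [Group H] {a b : H} (hc : Commute a b)
    (hcop : (orderOf a).Coprime (orderOf b)) : a ∈ Subgroup.zpowers (a * b) := by
  have h1 : (a * b) ^ orderOf b = a ^ orderOf b := by
    rw [hc.mul_pow, pow_orderOf_eq_one, mul_one]
  obtain ⟨m, hm⟩ : ∃ m : ℕ, (a ^ orderOf b) ^ m = a :=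
    exists_pow_eq_self_of_coprime hcop.symm
  have h2 : ((a * b) ^ orderOf b) ^ m ∈ Subgroup.zpowers (a * b) :=
    Subgroup.pow_mem _ (Subgroup.pow_mem _ (Subgroup.mem_zpowers (a * b)) _) _
  rwa [h1, hm] at h2

/-- The standing hypothesis. -/
structure Setup (N G : Type*) [Group N] [Group G] where
  /-- The embedding. -/
  i : N →* G
  inj : Function.Injective i
  normal : i.range.Normal
  coatom : ∀ x : N, x ∉ Subgroup.center N → IsCoatom (cen (i x))

namespace Setup

variable (S : Setup N G)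

theorem exists_conj (g : G) (n : N) : ∃ m : N, S.i m = g * S.i n * g⁻¹ :=
  S.normal.conj_mem _ ⟨n, rfl⟩ g

/-- Conjugation by an element of `G` as a map of `N`. -/
noncomputable def cj (g : G) (n : N) : N := (S.exists_conj g n).choose

@[simp] theorem i_cj (g : G) (n : N) : S.i (S.cj g n) = g * S.i n * g⁻¹ :=
  (S.exists_conj g n).choose_spec

theorem cj_mul (g : G) (a b : N) : S.cj g (a * b) = S.cj g a * S.cj g b := by
  apply S.inj
  simp [mul_assoc]

theorem cj_cj (g h : G) (n : N) : S.cj g (S.cj h n) = S.cj (g * h) n := by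
  apply S.inj
  simp [mul_assoc]

theorem cj_one (n : N) : S.cj 1 n = n := by
  apply S.inj
  simp

/-- Conjugation by an element of `G` as an automorphism of `N`. -/
noncomputable def σ (g : G) : MulAut N where
  toFun := S.cj g
  invFun := S.cj g⁻¹
  left_inv n := by rw [S.cj_cj, inv_mul_cancel, S.cj_one]
  right_inv n := by rw [S.cj_cj, mul_inv_cancel, S.cj_one]
  map_mul' := S.cj_mul g

@[simp] theorem σ_apply (g : G) (n : N) : S.σ g n = S.cj g n := rfl

theorem cj_i (m n : N) : S.cj (S.i m) n = m * n * m⁻¹ := by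
  apply S.inj
  simp

/-- A subgroup of `N` invariant under conjugation by every element of `K`. -/
def InvUnder (K : Subgroup G) (V : Subgroup N) : Prop := ∀ g ∈ K, ∀ v ∈ V, S.cj g v ∈ V

theorem mem_cen_i {x y : N} : S.i y ∈ cen (S.i x) ↔ y ∈ cen x := by
  rw [mem_cen, mem_cen, ← map_mul, ← map_mul, S.inj.eq_iff]

theorem invUnder_cen (x : N) : S.InvUnder (cen (S.i x)) (cen x) := by
  intro g hg v hv
  rw [← S.mem_cen_i] at hv ⊢
  rw [S.i_cj]
  exact Subgroup.mul_mem _ (Subgroup.mul_mem _ hg hv) (Subgroup.inv_mem _ hg)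

theorem invUnder_sup {K : Subgroup G} {A B : Subgroup N} (hA : S.InvUnder K A)
    (hB : S.InvUnder K B) : S.InvUnder K (A ⊔ B) := by
  intro g hg v hv
  have : A ⊔ B ≤ (A ⊔ B).comap (S.σ g).toMonoidHom :=
    sup_le (fun a ha => Subgroup.mem_sup_left (hA g hg a ha))
      (fun b hb => Subgroup.mem_sup_right (hB g hg b hb))
  exact this hv

theorem invUnder_mono {K K' : Subgroup G} (h : K' ≤ K) {V : Subgroup N} (hV : S.InvUnder K V) :
    S.InvUnder K' V := fun g hg => hV g (h hg)

theorem invUnder_center (K : Subgroup G) : S.InvUnder K (Subgroup.center N) := by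
  intro g _ v hv
  rw [Subgroup.mem_center_iff] at hv ⊢
  intro n
  have h := congrArg (S.cj g) (hv (S.cj g⁻¹ n))
  simpa [S.cj_mul, S.cj_cj, S.cj_one] using h

theorem not_range_le {x : N} (hx : x ∉ Subgroup.center N) : ¬ S.i.range ≤ cen (S.i x) := by
  intro h
  exact hx (Subgroup.mem_center_iff.mpr fun n => mem_cen.mp (S.mem_cen_i.mp (h ⟨n, rfl⟩)))

theorem range_sup_cen {x : N} (hx : x ∉ Subgroup.center N) : S.i.range ⊔ cen (S.i x) = ⊤ :=
  (S.coatom x hx).2 _ (lt_of_le_of_ne le_sup_right fun h => S.not_range_le hx (h ▸ le_sup_left))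

/-- There is nothing strictly between a centralizer in `N` and `N` invariant under the
centralizer in `G`. -/
theorem chief {x : N} (hx : x ∉ Subgroup.center N) {V : Subgroup N} (hle : cen x ≤ V)
    (hV : S.InvUnder (cen (S.i x)) V) : V = cen x ∨ V = ⊤ := by
  have hnorm : cen (S.i x) ≤ Subgroup.normalizer ((V.map S.i : Subgroup G) : Set G) := by
    intro g hg
    rw [Subgroup.mem_normalizer_iff]
    intro y
    constructor
    · rintro ⟨v, hv, rfl⟩
      exact ⟨S.cj g v, hV g hg v hv, by simp⟩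
    · rintro ⟨v, hv, he⟩
      refine ⟨S.cj g⁻¹ v, hV g⁻¹ (Subgroup.inv_mem _ hg) v hv, ?_⟩
      simp [he, mul_assoc]
  rcases (S.coatom x hx).le_iff.mp (le_sup_right : cen (S.i x) ≤ V.map S.i ⊔ cen (S.i x)) with
    h | h
  · right
    refine eq_top_iff.mpr fun n _ => ?_
    have hn : S.i n ∈ V.map S.i ⊔ cen (S.i x) := by rw [h]; trivial
    have hn' : S.i n ∈ ((V.map S.i : Subgroup G) : Set G) * (cen (S.i x) : Set G) := by
      rw [← Subgroup.coe_mul_of_right_le_normalizer_left _ _ hnorm]; exact hn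
    obtain ⟨_, ⟨v, hv, rfl⟩, l, hl, he⟩ := hn'
    have hl' : v⁻¹ * n ∈ cen x := by
      rw [← S.mem_cen_i, map_mul, map_inv, ← he]
      simpa using hl
    simpa using Subgroup.mul_mem _ hv (hle hl')
  · left
    refine le_antisymm (fun v hv => ?_) hle
    rw [← S.mem_cen_i]
    exact h ▸ Subgroup.mem_sup_left (Subgroup.mem_map_of_mem _ hv)

include S in
theorem cen_ne_top {x : N} (hx : x ∉ Subgroup.center N) : cen x ≠ ⊤ := by
  intro h
  exact hx (Subgroup.mem_center_iff.mpr fun n => mem_cen.mp (h ▸ Subgroup.mem_top n))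

theorem inv_top_of_normal {x : N} (hx : x ∉ Subgroup.center N) {V : Subgroup N} [hVn : V.Normal]
    (hV : S.InvUnder (cen (S.i x)) V) : S.InvUnder ⊤ V := by
  intro g _ v hv
  have hle : S.i.range ⊔ cen (S.i x) ≤
      Subgroup.normalizer ((V.map S.i : Subgroup G) : Set G) := by
    refine sup_le ?_ fun h hh => ?_
    · rw [MonoidHom.range_eq_map]
      refine le_trans ?_ (Subgroup.le_normalizer_map S.i)
      rw [Subgroup.normalizer_eq_top]
    · rw [Subgroup.mem_normalizer_iff]
      intro y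
      constructor
      · rintro ⟨w, hw, rfl⟩
        exact ⟨S.cj h w, hV h hh w hw, by simp⟩
      · rintro ⟨w, hw, he⟩
        refine ⟨S.cj h⁻¹ w, hV h⁻¹ (Subgroup.inv_mem _ hh) w hw, ?_⟩
        simp [he, mul_assoc]
  have hg : g ∈ Subgroup.normalizer ((V.map S.i : Subgroup G) : Set G) :=
    hle (by rw [S.range_sup_cen hx]; trivial)
  obtain ⟨w, hw, he⟩ := (Subgroup.mem_normalizer_iff.mp hg (S.i v)).mp
    (Subgroup.mem_map_of_mem _ hv)
  rw [← S.i_cj] at he
  exact S.inj he ▸ hw

theorem cen_eq_of_le {a b : N} (ha : a ∉ Subgroup.center N) (hb : b ∉ Subgroup.center N)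
    (h : cen (S.i a) ≤ cen (S.i b)) : cen a = cen b := by
  have heq : cen (S.i a) = cen (S.i b) :=
    ((S.coatom a ha).le_iff.mp h).elim (fun e => absurd e (S.coatom b hb).1) (fun e => e.symm)
  ext y
  rw [← S.mem_cen_i, ← S.mem_cen_i, heq]

include S in
theorem cen_eq_of_mem_zpowers {a b : N} (ha : a ∉ Subgroup.center N) (hb : b ∉ Subgroup.center N)
    (h : b ∈ Subgroup.zpowers a) : cen a = cen b := by
  refine S.cen_eq_of_le ha hb (cen_le_cen_of_mem ?_)
  obtain ⟨k, rfl⟩ := Subgroup.mem_zpowers_iff.mp h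
  exact ⟨k, (map_zpow S.i a k).symm⟩

include S in
theorem coprime_cen_eq {a b : N} (hc : Commute a b) (hcop : (orderOf a).Coprime (orderOf b))
    (ha : a ∉ Subgroup.center N) (hb : b ∉ Subgroup.center N) : cen a = cen b := by
  have h1 := mem_zpowers_mul hc hcop
  have h2 : b ∈ Subgroup.zpowers (a * b) := hc.eq ▸ mem_zpowers_mul hc.symm hcop.symm
  have hab : a * b ∉ Subgroup.center N := fun h => ha ((Subgroup.zpowers_le.mpr h) h1)
  rw [← S.cen_eq_of_mem_zpowers hab ha h1, S.cen_eq_of_mem_zpowers hab hb h2]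

variable [Finite N]

include S in
/-- Every noncentral element has the centralizer of a noncentral prime-power element. -/
theorem exists_prime_power {x : N} (hx : x ∉ Subgroup.center N) :
    ∃ a : N, a ∈ Subgroup.zpowers x ∧ a ∉ Subgroup.center N ∧ cen a = cen x ∧
      ∃ p k : ℕ, p.Prime ∧ orderOf a = p ^ k := by
  by_contra hcon
  push Not at hcon
  refine hx (mem_of_prime_power_parts fun y hy r k hr hyk => ?_)
  by_contra hy'
  exact hcon y hy hy' (S.cen_eq_of_mem_zpowers hx hy' hy).symm r k hr hyk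

include S in
/-- A centralizer is commutative, or is a `p`-group modulo the centre. -/
theorem dichotomy {a : N} (ha : a ∉ Subgroup.center N) {p k : ℕ} (hp : p.Prime)
    (hak : orderOf a = p ^ k) :
    (∀ m ∈ cen a, ∀ n ∈ cen a, m * n = n * m) ∨
      (∀ y ∈ cen a, ∀ r j : ℕ, r.Prime → r ≠ p → orderOf y = r ^ j → y ∈ Subgroup.center N) := by
  by_contra hcon
  push Not at hcon
  obtain ⟨⟨m, hm, n, hn, hmn⟩, b, hb, r, j, hr, hrp, hbj, hbc⟩ := hcon
  have hab : cen b = cen a := S.coprime_cen_eq (mem_cen.mp hb)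
    (by rw [hbj, hak]; exact Nat.Coprime.pow _ _ ((Nat.coprime_primes hr hp).mpr hrp)) hbc ha
  refine hmn (mem_cen.mp (?_ : m ∈ cen n))
  rw [mem_cen_comm]
  revert n
  intro n hn _
  rw [mem_cen_comm]
  refine mem_of_prime_power_parts fun y hy s i hs hyi => ?_
  by_cases hyc : y ∈ Subgroup.center N
  · exact center_le_cen _ hyc
  have hym : y ∈ cen a := Subgroup.zpowers_le.mpr hm hy
  have key : cen y = cen a := by
    by_cases hsp : s = p
    · rw [← hab]
      refine S.coprime_cen_eq (mem_cen.mp (hab ▸ hym : y ∈ cen b)) ?_ hyc hbc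
      rw [hyi, hbj, hsp]
      exact Nat.Coprime.pow _ _ ((Nat.coprime_primes hp hr).mpr (Ne.symm hrp))
    · refine S.coprime_cen_eq (mem_cen.mp hym) ?_ hyc ha
      rw [hyi, hak]
      exact Nat.Coprime.pow _ _ ((Nat.coprime_primes hs hp).mpr hsp)
  rw [mem_cen_comm, key]
  exact hn

theorem map_mk_pgroup {p : ℕ} [Fact p.Prime] {V : Subgroup N}
    (hV : ∀ y ∈ V, ∀ r j : ℕ, r.Prime → r ≠ p → orderOf y = r ^ j → y ∈ Subgroup.center N) :
    IsPGroup p (V.map (QuotientGroup.mk' (Subgroup.center N))) := by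
  rintro ⟨_, n, hn, rfl⟩
  refine ⟨(orderOf n).factorization p, Subtype.ext ?_⟩
  rw [SubmonoidClass.coe_pow, ← map_pow, Subgroup.coe_one, ← MonoidHom.mem_ker,
    QuotientGroup.ker_mk']
  refine mem_of_prime_power_parts fun y hy r j hr hyj => ?_
  by_cases hrp : r = p
  · subst hrp
    have hd : r ^ j ∣ orderOf n / r ^ (orderOf n).factorization r := by
      rw [← hyj, ← orderOf_pow_of_dvd (pow_ne_zero _ hr.ne_zero) (Nat.ordProj_dvd _ _)]
      exact orderOf_dvd_of_mem_zpowers hy
    rcases Nat.eq_zero_or_pos j with rfl | hj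
    · rw [pow_zero, orderOf_eq_one_iff] at hyj
      exact hyj ▸ one_mem _
    · exact absurd ((dvd_pow_self r hj.ne').trans hd)
        (Nat.not_dvd_ordCompl hr (orderOf_pos n).ne')
  · exact hV y (Subgroup.zpowers_le.mpr (V.pow_mem hn _) hy) r j hr hrp hyj

end Setup

end CfsgLib.CentMaxNormal
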