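import Mathlib
import Cfsg.Agent.Lib.CentMaxNormal.Basic
import Cfsg.Agent.Lib.Transfer.ThompsonComplement
import Cfsg.Agent.S0035
import Cfsg.Agent.S0040
import Cfsg.Agent.S0041
import Cfsg.Agent.S0042

/-!
If every noncentral element of the normal subgroup `N` has a maximal centralizer in `G`, then
`N/Z(N)` is elementary abelian or Frobenius with elementary abelian kernel and complement of
prime order.
-/

set_option autoImplicit false
set_option linter.style.haveILetI false

open scoped Pointwise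

namespace CfsgLib.CentMaxNormal

theorem mem_smul_conj_iff {H : Type*} [Group H] {K : Subgroup H} {g y : H} :
    y ∈ MulAut.conj g • K ↔ g⁻¹ * y * g ∈ K := by
  rw [Subgroup.mem_pointwise_smul_iff_inv_smul_mem, MulAut.smul_def, MulAut.conj_inv_apply]

theorem eq_of_selfNormalizing_le {H : Type*} [Group H] [Finite H] {A B : Subgroup H} {p : ℕ}
    [Fact p.Prime] (hA : Subgroup.normalizer (A : Set H) ≤ A) (hB : IsPGroup p B) (hle : A ≤ B) :
    A = B := by
  haveI := hB.isNilpotent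
  by_contra hne
  have hlt : A.subgroupOf B < ⊤ := by
    rw [lt_top_iff_ne_top, Ne, Subgroup.subgroupOf_eq_top]
    exact fun h => hne (le_antisymm hle h)
  obtain ⟨b, hb, hb'⟩ := SetLike.exists_of_lt (Group.normalizerCondition_of_isNilpotent _ hlt)
  refine hb' (hA ?_)
  rw [Subgroup.mem_normalizer_iff] at hb ⊢
  intro y
  constructor
  · intro hy; exact (hb ⟨y, hle hy⟩).mp hy
  · intro hy
    have hyB : y ∈ B := by
      have := B.mul_mem (B.mul_mem (B.inv_mem b.2) (hle hy)) b.2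
      simpa [mul_assoc] using this
    exact (hb ⟨y, hyB⟩).mpr hy

theorem pow_ordProj_mem {H : Type*} [Group H] [Finite H] {p : ℕ} {W : Subgroup H} (n : H)
    (hW : ∀ y ∈ Subgroup.zpowers n, ∀ r j : ℕ, r.Prime → r ≠ p → orderOf y = r ^ j → y ∈ W) :
    n ^ p ^ (orderOf n).factorization p ∈ W := by
  refine mem_of_prime_power_parts fun y hy r j hr hyj => ?_
  by_cases hrp : r = p
  · subst hrp
    have hd : r ^ j ∣ orderOf n / r ^ (orderOf n).factorization r := by
      rw [← hyj, ← orderOf_pow_of_dvd (pow_ne_zero _ hr.ne_zero) (Nat.ordProj_dvd _ _)]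
      exact orderOf_dvd_of_mem_zpowers hy
    rcases Nat.eq_zero_or_pos j with rfl | hj
    · rw [pow_zero, orderOf_eq_one_iff] at hyj
      exact hyj ▸ one_mem _
    · exact absurd ((dvd_pow_self r hj.ne').trans hd)
        (Nat.not_dvd_ordCompl hr (orderOf_pos n).ne')
  · exact hW y (Subgroup.zpowers_le.mpr (Subgroup.pow_mem _ (Subgroup.mem_zpowers n) _) hy)
      r j hr hrp hyj

namespace Setup

variable {N G : Type*} [Group N] [Group G] (S : Setup N G)

theorem normal_of_inv {V : Subgroup N} (hV : S.InvUnder ⊤ V) : V.Normal :=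
  ⟨fun v hv m => S.cj_i m v ▸ hV (S.i m) (Subgroup.mem_top _) v hv⟩

theorem invUnder_normalizer {L : Subgroup G} {U : Subgroup N} (hU : S.InvUnder L U) :
    S.InvUnder L (Subgroup.normalizer (U : Set N)) := by
  intro g hg n hn
  rw [Subgroup.mem_normalizer_iff] at hn ⊢
  intro y
  have hiff : ∀ z : N, z ∈ U ↔ S.cj g⁻¹ z ∈ U := fun z =>
    ⟨fun hz => hU g⁻¹ (L.inv_mem hg) z hz, fun hz => by
      have := hU g hg _ hz
      rwa [S.cj_cj, mul_inv_cancel, S.cj_one] at this⟩
  rw [hiff y, hn, hiff (S.cj g n * y * (S.cj g n)⁻¹)]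
  have : S.cj g⁻¹ (S.cj g n * y * (S.cj g n)⁻¹) = n * S.cj g⁻¹ y * n⁻¹ := by
    apply S.inj
    simp [mul_assoc]
  rw [this]

include S in
theorem selfNormalizing {x : N} (hx : x ∉ Subgroup.center N) (hnn : ¬ (cen x).Normal) :
    Subgroup.normalizer ((cen x : Subgroup N) : Set N) = cen x :=
  (S.chief hx Subgroup.le_normalizer (S.invUnder_normalizer (S.invUnder_cen x))).resolve_right
    fun h => hnn (Subgroup.normalizer_eq_top_iff.mp h)

/-- The automorphism of `N/Z(N)` induced by an element of `G`. -/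
noncomputable def τ (g : G) : N ⧸ Subgroup.center N →* N ⧸ Subgroup.center N :=
  QuotientGroup.map _ _ (S.σ g).toMonoidHom fun _ hz => S.invUnder_center ⊤ g (Subgroup.mem_top _) _ hz

theorem τ_mk (g : G) (n : N) :
    S.τ g (QuotientGroup.mk' _ n) = QuotientGroup.mk' _ (S.cj g n) := rfl

theorem τ_τ (g : G) (z : N ⧸ Subgroup.center N) : S.τ g⁻¹ (S.τ g z) = z := by
  obtain ⟨n, rfl⟩ := QuotientGroup.mk'_surjective _ z
  rw [τ_mk, τ_mk, S.cj_cj, inv_mul_cancel, S.cj_one]

theorem τ_injective (g : G) : Function.Injective (S.τ g) :=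
  Function.LeftInverse.injective (S.τ_τ g)

/-- `B` is stable under the automorphisms induced by `L`. -/
def Stable (L : Subgroup G) (B : Subgroup (N ⧸ Subgroup.center N)) : Prop :=
  ∀ g ∈ L, B.map (S.τ g) = B

theorem stable_map {L : Subgroup G} {V : Subgroup N} (hV : S.InvUnder L V) :
    S.Stable L (V.map (QuotientGroup.mk' _)) := by
  intro g hg
  ext z
  constructor
  · rintro ⟨_, ⟨v, hv, rfl⟩, rfl⟩
    exact ⟨_, hV g hg v hv, rfl⟩
  · rintro ⟨v, hv, rfl⟩
    refine ⟨_, ⟨_, hV g⁻¹ (L.inv_mem hg) v hv, rfl⟩, ?_⟩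
    rw [τ_mk, S.cj_cj, mul_inv_cancel, S.cj_one]

theorem invUnder_comap {L : Subgroup G} {B : Subgroup (N ⧸ Subgroup.center N)}
    (hB : S.Stable L B) : S.InvUnder L (B.comap (QuotientGroup.mk' _)) := fun g hg v hv =>
  (hB g hg).le ⟨_, hv, rfl⟩

theorem mem_of_stable {L : Subgroup G} {B : Subgroup (N ⧸ Subgroup.center N)} (hB : S.Stable L B)
    {g : G} (hg : g ∈ L) {z : N ⧸ Subgroup.center N} : S.τ g z ∈ B ↔ z ∈ B := by
  conv_lhs => rw [← hB g hg]
  exact Subgroup.mem_map_iff_mem (S.τ_injective g)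

theorem τ_surj (g : G) (z : N ⧸ Subgroup.center N) : ∃ y, S.τ g y = z :=
  ⟨S.τ g⁻¹ z, by simpa using S.τ_τ g⁻¹ z⟩

theorem stable_normalizer {L : Subgroup G} {B : Subgroup (N ⧸ Subgroup.center N)}
    (hB : S.Stable L B) : S.Stable L (Subgroup.normalizer (B : Set (N ⧸ Subgroup.center N))) := by
  intro g hg
  ext z
  obtain ⟨n, rfl⟩ := S.τ_surj g z
  rw [Subgroup.mem_map_iff_mem (S.τ_injective g), Subgroup.mem_normalizer_iff,
    Subgroup.mem_normalizer_iff]
  refine ⟨fun h w => ?_, fun h w => ?_⟩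
  · obtain ⟨y, rfl⟩ := S.τ_surj g w
    rw [← map_inv, ← map_mul, ← map_mul, S.mem_of_stable hB hg, S.mem_of_stable hB hg]
    exact h y
  · have := h (S.τ g w)
    rwa [← map_inv, ← map_mul, ← map_mul, S.mem_of_stable hB hg, S.mem_of_stable hB hg] at this

theorem stable_centralizer {L : Subgroup G} {B : Subgroup (N ⧸ Subgroup.center N)}
    (hB : S.Stable L B) : S.Stable L (Subgroup.centralizer (B : Set (N ⧸ Subgroup.center N))) := by
  intro g hg
  ext z
  obtain ⟨n, rfl⟩ := S.τ_surj g z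
  rw [Subgroup.mem_map_iff_mem (S.τ_injective g), Subgroup.mem_centralizer_iff,
    Subgroup.mem_centralizer_iff]
  refine ⟨fun h w hw => ?_, fun h w hw => ?_⟩
  · obtain ⟨y, rfl⟩ := S.τ_surj g w
    rw [← map_mul, ← map_mul, h y ((S.mem_of_stable hB hg).mp hw)]
  · apply S.τ_injective g
    rw [map_mul, map_mul]
    exact h _ ((S.mem_of_stable hB hg).mpr hw)

theorem stable_inf {L : Subgroup G} {A B : Subgroup (N ⧸ Subgroup.center N)}
    (hA : S.Stable L A) (hB : S.Stable L B) : S.Stable L (A ⊓ B) := by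
  intro g hg
  rw [Subgroup.map_inf_eq _ _ _ (S.τ_injective g), hA g hg, hB g hg]

variable [Finite N]

include S in
theorem chief_pgroup {x : N} (hx : x ∉ Subgroup.center N) [(cen x).Normal] {p : ℕ} [Fact p.Prime]
    (hpp : ∀ n : N, ∃ k : ℕ, n ^ p ^ k ∈ cen x) :
    ∀ a b : N, a * b * a⁻¹ * b⁻¹ ∈ cen x ∧ a ^ p ∈ cen x := by
  have hW : S.InvUnder ⊤ (cen x) := S.inv_top_of_normal hx (S.invUnder_cen x)
  set W := cen x with hWdef
  have hQ : IsPGroup p (N ⧸ W) := fun z => by
    obtain ⟨n, rfl⟩ := QuotientGroup.mk_surjective z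
    obtain ⟨k, hk⟩ := hpp n
    exact ⟨k, by rw [← QuotientGroup.mk_pow, QuotientGroup.eq_one_iff]; exact hk⟩
  haveI : Nontrivial (N ⧸ W) := by
    rw [QuotientGroup.nontrivial_iff]
    exact S.cen_ne_top hx
  set V := (Subgroup.center (N ⧸ W)).comap (QuotientGroup.mk' W) with hV
  have hmemV : ∀ v : N, v ∈ V ↔ ∀ n : N, n * v * n⁻¹ * v⁻¹ ∈ W := by
    intro v
    rw [hV, Subgroup.mem_comap, Subgroup.mem_center_iff,
      (QuotientGroup.mk'_surjective W).forall]
    refine forall_congr' fun n => ?_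
    rw [← map_mul, ← map_mul, ← mul_inv_eq_one, ← map_inv, ← map_mul, ← MonoidHom.mem_ker,
      QuotientGroup.ker_mk']
    simp [mul_assoc]
  have hVinv : S.InvUnder (cen (S.i x)) V := by
    intro g hg v hv
    rw [hmemV] at hv ⊢
    intro n
    have h1 := hW g (Subgroup.mem_top _) _ (hv (S.cj g⁻¹ n))
    have : S.cj g (S.cj g⁻¹ n * v * (S.cj g⁻¹ n)⁻¹ * v⁻¹) =
        n * S.cj g v * n⁻¹ * (S.cj g v)⁻¹ := by
      apply S.inj
      simp [mul_assoc]
    rwa [this] at h1
  have hle : cen x ≤ V := fun v hv => by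
    rw [hV, Subgroup.mem_comap, QuotientGroup.mk'_apply, (QuotientGroup.eq_one_iff v).mpr hv]
    exact one_mem _
  have hVtop : V = ⊤ := by
    refine (S.chief hx hle hVinv).resolve_left fun h => ?_
    obtain ⟨z, hz, hz1⟩ := (Subgroup.center (N ⧸ W)).bot_or_exists_ne_one.resolve_left
      (fun hb => absurd hb (by
        haveI := hQ.center_nontrivial
        exact (Subgroup.nontrivial_iff_ne_bot _).mp inferInstance))
    obtain ⟨v, rfl⟩ := QuotientGroup.mk'_surjective W z
    have hvW : v ∈ W := by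
      have hvV : v ∈ V := hz
      rwa [h] at hvV
    exact hz1 ((QuotientGroup.eq_one_iff v).mpr hvW)
  have hcomm : ∀ a b : N, a * b * a⁻¹ * b⁻¹ ∈ W := fun a b =>
    (hmemV b).mp (hVtop ▸ Subgroup.mem_top b) a
  have hQc : ∀ a b : N ⧸ W, a * b = b * a := by
    intro a b
    obtain ⟨a, rfl⟩ := QuotientGroup.mk'_surjective W a
    obtain ⟨b, rfl⟩ := QuotientGroup.mk'_surjective W b
    rw [← map_mul, ← map_mul, ← mul_inv_eq_one, ← map_inv, ← map_mul, ← MonoidHom.mem_ker,
      QuotientGroup.ker_mk']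
    simpa [mul_assoc] using hcomm a b
  have key : ∀ v : N, v ^ p ∈ W ↔ (QuotientGroup.mk' W v) ^ p = 1 := fun v => by
    rw [← map_pow, ← MonoidHom.mem_ker, QuotientGroup.ker_mk']
  let V2 : Subgroup N :=
    { carrier := {v | v ^ p ∈ W}
      one_mem' := by simp
      mul_mem' := fun {a b} ha hb => by
        simp only [Set.mem_setOf_eq, key] at ha hb ⊢
        rw [map_mul, Commute.mul_pow (hQc _ _), ha, hb, one_mul]
      inv_mem' := fun {a} ha => by simpa [inv_pow] using W.inv_mem ha }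
  have hV2 : V2 = ⊤ := by
    refine (S.chief hx (fun v hv => W.pow_mem hv p) ?_).resolve_left fun h => ?_
    · intro g hg v hv
      have : (S.cj g v) ^ p = S.cj g (v ^ p) := (map_pow (S.σ g) v p).symm
      change (S.cj g v) ^ p ∈ W
      rw [this]
      exact hW g (Subgroup.mem_top _) _ hv
    · obtain ⟨n, hn⟩ := hQ.exists_card_eq
      have hn0 : n ≠ 0 := by
        rintro rfl
        exact Finite.one_lt_card.ne' (by simpa using hn)
      obtain ⟨z, hz⟩ := exists_prime_orderOf_dvd_card' p (hn ▸ dvd_pow_self p hn0)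
      obtain ⟨v, rfl⟩ := QuotientGroup.mk'_surjective W z
      have hv : v ∈ V2 := by
        change v ^ p ∈ W
        rw [key]
        exact hz ▸ pow_orderOf_eq_one _
      have hvW : v ∈ W := by rwa [h] at hv
      rw [show QuotientGroup.mk' W v = 1 from (QuotientGroup.eq_one_iff v).mpr hvW,
        orderOf_one] at hz
      exact (Fact.out : p.Prime).ne_one hz.symm
  exact fun a b => ⟨hcomm a b, (hV2 ▸ Subgroup.mem_top a : a ∈ V2)⟩

theorem commute_of_normal_cens {a b : N} {p q k l : ℕ} (hp : p.Prime) (hq : q.Prime) (hpq : p ≠ q)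
    (ha : orderOf a = p ^ k) (hb : orderOf b = q ^ l)
    (hna : (cen a).Normal) (hnb : (cen b).Normal) : Commute a b := by
  have h1 : (a * b * a⁻¹ * b⁻¹) ^ p ^ k = 1 := by
    have hc : Commute a (b * a⁻¹ * b⁻¹) :=
      (mem_cen.mp (hna.conj_mem _ (Subgroup.inv_mem _ (self_mem_cen a)) b)).symm
    rw [show a * b * a⁻¹ * b⁻¹ = a * (b * a⁻¹ * b⁻¹) by group, hc.mul_pow, conj_pow, inv_pow, ← ha,
      pow_orderOf_eq_one]
    group
  have h2 : (a * b * a⁻¹ * b⁻¹) ^ q ^ l = 1 := by
    have hc : Commute (a * b * a⁻¹) b⁻¹ :=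
      (Commute.inv_right (mem_cen.mp (hnb.conj_mem _ (self_mem_cen b) a) :
        Commute (a * b * a⁻¹) b))
    rw [hc.mul_pow, conj_pow, inv_pow, ← hb, pow_orderOf_eq_one]
    group
  have h3 : a * b * a⁻¹ * b⁻¹ = 1 := by
    rw [← orderOf_eq_one_iff]
    exact Nat.eq_one_of_dvd_coprimes (Nat.Coprime.pow k l ((Nat.coprime_primes hp hq).mpr hpq))
      (orderOf_dvd_of_pow_eq_one h1) (orderOf_dvd_of_pow_eq_one h2)
  exact commutatorElement_eq_one_iff_commute.mp h3

theorem mem_center_of_forall_cen {c : N} (h : ∀ x : N, x ∉ Subgroup.center N → c ∈ cen x) :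
    c ∈ Subgroup.center N := by
  refine Subgroup.mem_center_iff.mpr fun x => ?_
  by_cases hx : x ∈ Subgroup.center N
  · exact (Subgroup.mem_center_iff.mp hx c).symm
  · exact (mem_cen.mp (h x hx)).symm

include S in
theorem elementary_of_all_normal (h : ∀ x : N, x ∉ Subgroup.center N → (cen x).Normal) :
    ∃ p : ℕ, p.Prime ∧ (∀ a b : N, a * b * a⁻¹ * b⁻¹ ∈ Subgroup.center N) ∧
      ∀ a : N, a ^ p ∈ Subgroup.center N := by
  by_cases hZ : ∀ x : N, x ∈ Subgroup.center N
  · exact ⟨2, Nat.prime_two, fun _ _ => hZ _, fun _ => hZ _⟩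
  push Not at hZ
  obtain ⟨x, hx⟩ := hZ
  obtain ⟨a, -, ha, -, p, k, hp, hak⟩ := S.exists_prime_power hx
  haveI := Fact.mk hp
  have hone : ∀ b : N, b ∉ Subgroup.center N → ∀ q l : ℕ, q.Prime → orderOf b = q ^ l → q = p := by
    intro b hb q l hq hbl
    by_contra hqp
    have hab := commute_of_normal_cens hp hq (Ne.symm hqp) hak hbl (h a ha) (h b hb)
    have hcen := S.coprime_cen_eq hab
      (by rw [hak, hbl]; exact Nat.Coprime.pow _ _ ((Nat.coprime_primes hp hq).mpr (Ne.symm hqp)))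
      ha hb
    refine S.cen_ne_top ha (eq_top_iff.mpr fun n _ => mem_of_prime_power_parts fun y _ r j hr hyj => ?_)
    by_cases hy : y ∈ Subgroup.center N
    · exact center_le_cen _ hy
    by_cases hrp : r = p
    · rw [hcen]
      exact mem_cen.mpr (commute_of_normal_cens hr hq (hrp.trans_ne (Ne.symm hqp)) hyj hbl
        (h y hy) (h b hb)).eq
    · exact mem_cen.mpr (commute_of_normal_cens hr hp hrp hyj hak (h y hy) (h a ha)).eq
  have hpp : ∀ n : N, ∃ j : ℕ, n ^ p ^ j ∈ Subgroup.center N := fun n =>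
    ⟨_, pow_ordProj_mem n fun y _ r j hr hrp hyj => by
      by_contra hy
      exact hrp (hone y hy r j hr hyj)⟩
  refine ⟨p, hp, fun a b => mem_center_of_forall_cen fun y hy => ?_,
    fun a => mem_center_of_forall_cen fun y hy => ?_⟩
  · haveI := h y hy
    exact (S.chief_pgroup hy (fun n => (hpp n).imp fun j hj => center_le_cen _ hj) a b).1
  · haveI := h y hy
    exact (S.chief_pgroup hy (fun n => (hpp n).imp fun j hj => center_le_cen _ hj) a a).2

theorem mk_mem_map_iff {V : Subgroup N} (hV : Subgroup.center N ≤ V) {y : N} :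
    QuotientGroup.mk' (Subgroup.center N) y ∈ V.map (QuotientGroup.mk' _) ↔ y ∈ V := by
  rw [← Subgroup.mem_comap, Subgroup.comap_map_eq_self (by rwa [QuotientGroup.ker_mk'])]

theorem mk_eq_one_iff {y : N} :
    QuotientGroup.mk' (Subgroup.center N) y = 1 ↔ y ∈ Subgroup.center N := by
  rw [← MonoidHom.mem_ker, QuotientGroup.ker_mk']

theorem map_cen_ne_bot {x : N} (hx : x ∉ Subgroup.center N) :
    (cen x).map (QuotientGroup.mk' (Subgroup.center N)) ≠ ⊥ := fun h =>
  hx (mk_eq_one_iff.mp (Subgroup.mem_bot.mp (h ▸ Subgroup.mem_map_of_mem _ (self_mem_cen x))))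

include S in
theorem normalizer_map_cen_le {x : N} (hx : x ∉ Subgroup.center N) (hnn : ¬ (cen x).Normal) :
    Subgroup.normalizer (((cen x).map (QuotientGroup.mk' (Subgroup.center N)) :
      Subgroup (N ⧸ Subgroup.center N)) : Set (N ⧸ Subgroup.center N)) ≤
      (cen x).map (QuotientGroup.mk' _) := by
  intro z hz
  obtain ⟨n, rfl⟩ := QuotientGroup.mk'_surjective _ z
  rw [mk_mem_map_iff (center_le_cen x), ← S.selfNormalizing hx hnn, Subgroup.mem_normalizer_iff]
  intro y
  have h1 := Subgroup.mem_normalizer_iff.mp hz (QuotientGroup.mk' _ y)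
  rwa [← map_inv, ← map_mul, ← map_mul, mk_mem_map_iff (center_le_cen x),
    mk_mem_map_iff (center_le_cen x)] at h1

include S in
/-- The case of a commutative non-normal centralizer: a Frobenius group. -/
theorem frobenius_case {x : N} (hx : x ∉ Subgroup.center N) (hnn : ¬ (cen x).Normal)
    (hc : ∀ m ∈ cen x, ∀ n ∈ cen x, m * n = n * m) :
    ∃ (K : Subgroup (N ⧸ Subgroup.center N)) (p : ℕ), p.Prime ∧
      Cfsg.IsFrobeniusComplement ((cen x).map (QuotientGroup.mk' (Subgroup.center N))) ∧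
      (Nat.card ↥((cen x).map (QuotientGroup.mk' (Subgroup.center N)))).Prime ∧
      K.Normal ∧ (K : Set (N ⧸ Subgroup.center N)) =
        Cfsg.frobeniusKernel ((cen x).map (QuotientGroup.mk' (Subgroup.center N))) ∧
      K.IsComplement' ((cen x).map (QuotientGroup.mk' (Subgroup.center N))) ∧
      Cfsg.IsElementaryAbelian p K := by
  set π := QuotientGroup.mk' (Subgroup.center N) with hπ
  set H := (cen x).map π with hH
  have hcy : ∀ y ∈ cen x, y ∉ Subgroup.center N → cen y = cen x := by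
    intro y hy hyc
    have hle : cen x ≤ cen y := fun m hm => mem_cen.mpr (hc m hm y hy)
    obtain ⟨a, -, ha, hae, p, k, hp, hak⟩ := S.exists_prime_power hyc
    haveI := Fact.mk hp
    rcases S.dichotomy ha hp hak with h | h
    · refine le_antisymm (fun m hm => mem_cen.mpr ?_) hle
      rw [hae] at h
      exact h m hm x (hle (self_mem_cen x))
    · have hpg := map_mk_pgroup (p := p) h
      rw [hae] at hpg
      have heq := eq_of_selfNormalizing_le (S.normalizer_map_cen_le hx hnn) hpg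
        (Subgroup.map_mono hle)
      refine le_antisymm (fun m hm => ?_) hle
      rw [← mk_mem_map_iff (center_le_cen x), heq]
      exact Subgroup.mem_map_of_mem _ hm
  have hHtop : H ≠ ⊤ := by
    intro h
    refine S.cen_ne_top hx (eq_top_iff.mpr fun n _ => ?_)
    rw [← mk_mem_map_iff (center_le_cen x), ← hπ, ← hH, h]
    trivial
  have hFC : Cfsg.IsFrobeniusComplement H := by
    refine ⟨map_cen_ne_bot hx, hHtop, fun g hg => (Subgroup.eq_bot_iff_forall _).mpr fun z hz => ?_⟩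
    obtain ⟨n, rfl⟩ := QuotientGroup.mk'_surjective _ g
    obtain ⟨hz1, hz2⟩ := hz
    obtain ⟨y, hy, rfl⟩ := hz1
    have hz2' : π (n⁻¹ * y * n) ∈ H := by
      rw [map_mul, map_mul, map_inv]
      exact mem_smul_conj_iff.mp hz2
    rw [hH, mk_mem_map_iff (center_le_cen x)] at hz2'
    by_contra hne
    have hyc : y ∉ Subgroup.center N := fun h => hne (mk_eq_one_iff.mpr h)
    have hyc' : n⁻¹ * y * n ∉ Subgroup.center N := fun h => by
      refine hyc ?_
      have := (inferInstance : (Subgroup.center N).Normal).conj_mem _ h n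
      simpa [mul_assoc] using this
    refine hg ?_
    rw [hH, mk_mem_map_iff (center_le_cen x), ← S.selfNormalizing hx hnn,
      Subgroup.mem_normalizer_iff]
    intro m
    rw [show (m ∈ cen x) = (m ∈ cen (n⁻¹ * y * n)) by rw [hcy _ hz2' hyc'],
      show (n * m * n⁻¹ ∈ cen x) = (n * m * n⁻¹ ∈ cen y) by rw [hcy y hy hyc], mem_cen, mem_cen]
    refine ⟨fun e => ?_, fun e => ?_⟩
    · calc n * m * n⁻¹ * y = n * (m * (n⁻¹ * y * n)) * n⁻¹ := by group
        _ = n * (n⁻¹ * y * n * m) * n⁻¹ := by rw [e]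
        _ = y * (n * m * n⁻¹) := by group
    · calc m * (n⁻¹ * y * n) = n⁻¹ * (n * m * n⁻¹ * y) * n := by group
        _ = n⁻¹ * (y * (n * m * n⁻¹)) * n := by rw [e]
        _ = n⁻¹ * y * n * m := by group
  obtain ⟨K, hKset, hKn, hKc⟩ := Cfsg.Agent.S0035.result H hFC
  haveI := hKn
  set V := K.comap π with hV
  have hker : ∀ n : N, n ∈ V → n ∉ Subgroup.center N → ∀ m : N, m⁻¹ * n * m ∉ cen x := by
    intro n hn hnc m hm
    have hn' : π n ∈ Cfsg.frobeniusKernel H := hKset ▸ (hn : π n ∈ K)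
    rcases hn' with h | h
    · exact hnc (mk_eq_one_iff.mp h)
    · refine h (π m) (mem_smul_conj_iff.mpr ?_)
      rw [← map_inv, ← map_mul, ← map_mul]
      exact Subgroup.mem_map_of_mem _ hm
  have hcenb : ∀ b ∈ V, b ∉ Subgroup.center N → cen b ≤ V := by
    intro b hb hbc y hy
    by_contra hyV
    have hy' : π y ∉ Cfsg.frobeniusKernel H := hKset ▸ (hyV : π y ∉ K)
    simp only [Cfsg.frobeniusKernel, Set.mem_setOf_eq, not_or, not_forall, not_not] at hy'
    obtain ⟨hy1, g, hg⟩ := hy'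
    obtain ⟨m, rfl⟩ := QuotientGroup.mk'_surjective _ g
    have hm : m⁻¹ * y * m ∈ cen x := by
      rw [← mk_mem_map_iff (center_le_cen x), map_mul, map_mul, map_inv]
      exact mem_smul_conj_iff.mp hg
    have hmc : m⁻¹ * y * m ∉ Subgroup.center N := fun h => hy1 (mk_eq_one_iff.mpr (by
      have := (inferInstance : (Subgroup.center N).Normal).conj_mem _ h m
      simpa [mul_assoc] using this))
    refine hker b hb hbc m ?_
    rw [← hcy _ hm hmc, mem_cen]
    calc m⁻¹ * b * m * (m⁻¹ * y * m) = m⁻¹ * (b * y) * m := by group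
      _ = m⁻¹ * (y * b) * m := by rw [mem_cen.mp hy]
      _ = m⁻¹ * y * m * (m⁻¹ * b * m) := by group
  have hHstab := S.stable_map (S.invUnder_cen x)
  have hKstab : S.Stable (cen (S.i x)) K := by
    intro g hg
    ext z
    obtain ⟨w, rfl⟩ := S.τ_surj g z
    rw [Subgroup.mem_map_iff_mem (S.τ_injective g), ← SetLike.mem_coe, ← SetLike.mem_coe, hKset]
    simp only [Cfsg.frobeniusKernel, Set.mem_setOf_eq, mem_smul_conj_iff]
    refine or_congr (map_eq_one_iff _ (S.τ_injective g)).symm ⟨fun h u => ?_, fun h u => ?_⟩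
    · obtain ⟨v, rfl⟩ := S.τ_surj g u
      rw [← map_inv, ← map_mul, ← map_mul, S.mem_of_stable hHstab hg]
      exact h v
    · have := h (S.τ g u)
      rwa [← map_inv, ← map_mul, ← map_mul, S.mem_of_stable hHstab hg] at this
  haveI hVn : V.Normal := hKn.comap π
  have hVinv : S.InvUnder ⊤ V := S.inv_top_of_normal hx (S.invUnder_comap hKstab)
  have hZV : Subgroup.center N ≤ V := fun z hz => by
    rw [hV, Subgroup.mem_comap, mk_eq_one_iff.mpr hz]; exact one_mem _
  have hKtop : K ≠ ⊤ := fun h => map_cen_ne_bot hx (by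
    have := hKc.disjoint
    rw [h, top_disjoint] at this
    exact this)
  have hVcen : ∀ b ∈ V, b ∉ Subgroup.center N → V = cen b := fun b hb hbc =>
    (S.chief hbc (hcenb b hb hbc) (S.invUnder_mono le_top hVinv)).resolve_right fun h => hKtop (by
      rw [← Subgroup.map_comap_eq_self_of_surjective (QuotientGroup.mk'_surjective _) K, ← hπ,
        ← hV, h, ← MonoidHom.range_eq_map, MonoidHom.range_eq_top]
      exact QuotientGroup.mk'_surjective _)
  have hKbot : K ≠ ⊥ := fun h => hHtop (by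
    have := hKc.sup_eq_top
    rwa [h, bot_sup_eq] at this)
  have hKcomm : ∀ a ∈ K, ∀ b ∈ K, a * b = b * a := by
    intro a ha b hb
    obtain ⟨a, rfl⟩ := QuotientGroup.mk'_surjective _ a
    obtain ⟨b, rfl⟩ := QuotientGroup.mk'_surjective _ b
    rw [← map_mul, ← map_mul]
    congr 1
    by_cases hac : a ∈ Subgroup.center N
    · exact (Subgroup.mem_center_iff.mp hac b).symm
    · exact (mem_cen.mp (hVcen a ha hac ▸ (hb : b ∈ V))).symm
  haveI hKcm : IsMulCommutative K := ⟨⟨fun a b => Subtype.ext (hKcomm a a.2 b b.2)⟩⟩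
  -- `K` has prime exponent
  obtain ⟨p, hp, hpd⟩ := Nat.exists_prime_and_dvd (fun h1 => hKbot (Subgroup.card_eq_one.mp h1))
  haveI := Fact.mk hp
  obtain ⟨k0, hk0⟩ := exists_prime_orderOf_dvd_card' (G := K) p hpd
  let K2 : Subgroup (N ⧸ Subgroup.center N) :=
    { carrier := {z | z ∈ K ∧ z ^ p = 1}
      one_mem' := ⟨one_mem _, one_pow _⟩
      mul_mem' := fun {a b} ha hb => ⟨K.mul_mem ha.1 hb.1, by
        rw [Commute.mul_pow (hKcomm a ha.1 b hb.1), ha.2, hb.2, one_mul]⟩
      inv_mem' := fun {a} ha => ⟨K.inv_mem ha.1, by rw [inv_pow, ha.2, inv_one]⟩ }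
  haveI hK2n : K2.Normal := ⟨fun a ha g => ⟨hKn.conj_mem a ha.1 g, by
    rw [conj_pow, ha.2, mul_one, mul_inv_cancel]⟩⟩
  have hK2stab : S.Stable (cen (S.i x)) K2 := by
    intro g hg
    ext z
    obtain ⟨w, rfl⟩ := S.τ_surj g z
    rw [Subgroup.mem_map_iff_mem (S.τ_injective g)]
    exact and_congr (S.mem_of_stable hKstab hg).symm
      ((map_pow (S.τ g) w p ▸ (map_eq_one_iff _ (S.τ_injective g))).symm)
  have hexp : ∀ z ∈ K, z ^ p = 1 := by
    intro z hz
    rcases S.chief hx (le_sup_left : cen x ≤ cen x ⊔ K2.comap π)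
      (S.invUnder_sup (S.invUnder_cen x) (S.invUnder_comap hK2stab)) with h | h
    · exfalso
      obtain ⟨v, hv⟩ := QuotientGroup.mk'_surjective _ (k0 : N ⧸ Subgroup.center N)
      have hvK2 : v ∈ K2.comap π := by
        refine ⟨?_, ?_⟩ <;> rw [hπ, hv]
        · exact k0.2
        · rw [← hk0, ← Subgroup.orderOf_coe]; exact pow_orderOf_eq_one _
      have h1 : π v ∈ K ⊓ H :=
        ⟨by rw [hπ, hv]; exact k0.2, Subgroup.mem_map_of_mem _ (h ▸ Subgroup.mem_sup_right hvK2)⟩
      rw [hKc.disjoint.eq_bot, Subgroup.mem_bot, hπ, hv] at h1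
      rw [show k0 = 1 from Subtype.ext h1, orderOf_one] at hk0
      exact hp.ne_one hk0.symm
    · obtain ⟨w, rfl⟩ := QuotientGroup.mk'_surjective _ z
      have hw : π w ∈ H ⊔ K2 := by
        have := Subgroup.mem_map_of_mem π (h ▸ Subgroup.mem_top w : w ∈ cen x ⊔ K2.comap π)
        rwa [Subgroup.map_sup, Subgroup.map_comap_eq_self_of_surjective
          (QuotientGroup.mk'_surjective _)] at this
      obtain ⟨u, hu, v, hv, huv⟩ := Subgroup.mem_sup_of_normal_right.mp hw
      have hu1 : u ∈ K ⊓ H := ⟨by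
        rw [show u = π w * v⁻¹ by rw [← huv]; group]
        exact K.mul_mem hz (K.inv_mem hv.1), hu⟩
      rw [hKc.disjoint.eq_bot, Subgroup.mem_bot] at hu1
      rw [← hπ, ← huv, hu1, one_mul]
      exact hv.2
  -- the complement has prime order
  obtain ⟨r, hr, hrd⟩ := Nat.exists_prime_and_dvd
    (fun h1 => map_cen_ne_bot hx (Subgroup.card_eq_one.mp h1) : Nat.card H ≠ 1)
  haveI := Fact.mk hr
  obtain ⟨u0, hu0⟩ := exists_prime_orderOf_dvd_card' (G := H) r hrd
  have hHcomm : ∀ a ∈ H, ∀ b ∈ H, a * b = b * a := by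
    rintro _ ⟨a, ha, rfl⟩ _ ⟨b, hb, rfl⟩
    rw [← map_mul, ← map_mul, hc a ha b hb]
  haveI hHcm : IsMulCommutative H := ⟨⟨fun a b => Subtype.ext (hHcomm a a.2 b b.2)⟩⟩
  have hQK : ∀ a b : N ⧸ Subgroup.center N, a * b * a⁻¹ * b⁻¹ ∈ K := by
    intro a b
    obtain ⟨k1, hk1, u1, hu1, rfl⟩ := Subgroup.mem_sup_of_normal_left.mp
      (hKc.sup_eq_top.symm ▸ Subgroup.mem_top a : a ∈ K ⊔ H)
    obtain ⟨k2, hk2, u2, hu2, rfl⟩ := Subgroup.mem_sup_of_normal_left.mp
      (hKc.sup_eq_top.symm ▸ Subgroup.mem_top b : b ∈ K ⊔ H)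
    rw [← QuotientGroup.eq_one_iff (N := K)]
    simp only [QuotientGroup.mk_mul, QuotientGroup.mk_inv]
    rw [(QuotientGroup.eq_one_iff k1).mpr hk1, (QuotientGroup.eq_one_iff k2).mpr hk2, one_mul,
      one_mul, ← QuotientGroup.mk_mul, hHcomm u1 hu1 u2 hu2, QuotientGroup.mk_mul]
    group
  let R : Subgroup N :=
    { carrier := {n | π n ^ r ∈ K}
      one_mem' := by simp
      mul_mem' := fun {a b} ha hb => by
        simp only [Set.mem_setOf_eq, ← QuotientGroup.eq_one_iff (N := K), QuotientGroup.mk_pow]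
          at ha hb ⊢
        rw [map_mul, QuotientGroup.mk_mul, Commute.mul_pow ?_, ha, hb, one_mul]
        have := (QuotientGroup.eq_one_iff (N := K) _).mpr (hQK (π a) (π b))
        simp only [QuotientGroup.mk_mul, QuotientGroup.mk_inv] at this
        exact commutatorElement_eq_one_iff_commute.mp this
      inv_mem' := fun {a} ha => by
        simp only [Set.mem_setOf_eq, map_inv, inv_pow] at ha ⊢
        exact inv_mem ha }
  obtain ⟨b, hbK, hb1⟩ := K.bot_or_exists_ne_one.resolve_left hKbot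
  obtain ⟨b, rfl⟩ := QuotientGroup.mk'_surjective _ b
  have hbc : b ∉ Subgroup.center N := fun h => hb1 (mk_eq_one_iff.mpr h)
  have hVR : V ≤ R := fun v hv => pow_mem (hv : π v ∈ K) r
  have hRtop : R = ⊤ := by
    refine (S.chief hbc ((hVcen b hbK hbc) ▸ hVR) ?_).resolve_left fun h => ?_
    · intro g _ v hv
      change π (S.cj g v) ^ r ∈ K
      rw [← map_pow, show S.cj g v ^ r = S.cj g (v ^ r) from (map_pow (S.σ g) v r).symm]
      exact hVinv g (Subgroup.mem_top _) _ (show π (v ^ r) ∈ K by rw [map_pow]; exact hv)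
    · obtain ⟨v, hv, hve⟩ := u0.2
      have hvR : v ∈ R := by
        change π v ^ r ∈ K
        rw [hve, ← hu0, ← Subgroup.orderOf_coe, pow_orderOf_eq_one]
        exact one_mem _
      have h1 : π v ∈ K ⊓ H :=
        ⟨(by rw [h, ← hVcen b hbK hbc] at hvR; exact hvR), Subgroup.mem_map_of_mem _ hv⟩
      rw [hKc.disjoint.eq_bot, Subgroup.mem_bot, hve] at h1
      rw [show u0 = 1 from Subtype.ext h1, orderOf_one] at hu0
      exact hr.ne_one hu0.symm
  have hHexp : ∀ u ∈ H, u ^ r = 1 := by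
    rintro _ ⟨u, hu, rfl⟩
    have h1 : π u ^ r ∈ K ⊓ H :=
      ⟨(hRtop ▸ Subgroup.mem_top u : u ∈ R), pow_mem (Subgroup.mem_map_of_mem _ hu) r⟩
    rwa [hKc.disjoint.eq_bot, Subgroup.mem_bot] at h1
  haveI hcyc : IsCyclic H := by
    refine Cfsg.Agent.S0041.result H K hKbot ?_ (fun h hh h1 => ?_) (Or.inl hHcm)
    · rw [Subgroup.normalizer_eq_top]; exact le_top
    · refine (Subgroup.eq_bot_iff_forall _).mpr fun k hk => ?_
      by_contra hk1
      have hkH : k ∉ H := fun hkH => hk1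
        (Subgroup.mem_bot.mp (hKc.disjoint.eq_bot ▸ (⟨hk.1, hkH⟩ : k ∈ K ⊓ H)))
      have : h ∈ H ⊓ MulAut.conj k • H := ⟨hh, mem_smul_conj_iff.mpr (by
        rw [mul_assoc, ← mem_cen.mp hk.2, inv_mul_cancel_left]; exact hh)⟩
      rw [hFC.2.2 k hkH, Subgroup.mem_bot] at this
      exact h1 this
  refine ⟨K, p, hp, hFC, ?_, hKn, hKset, hKc, ⟨hKcm, hexp⟩⟩
  obtain ⟨u, hu⟩ := IsCyclic.exists_generator (α := H)
  rw [← orderOf_eq_card_of_forall_mem_zpowers hu]
  have h1 : orderOf u ∣ r := orderOf_dvd_of_pow_eq_one (Subtype.ext (by simpa using hHexp u u.2))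
  rcases (Nat.dvd_prime hr).mp h1 with h | h
  · exfalso
    rw [orderOf_eq_one_iff] at h
    have := hu u0
    rw [h, Subgroup.zpowers_one_eq_bot, Subgroup.mem_bot] at this
    rw [this, orderOf_one] at hu0
    exact hr.ne_one hu0.symm
  · rw [h]; exact hr

end Setup

end CfsgLib.CentMaxNormal
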