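import Mathlib
import Cfsg.Agent.Lib.CentMaxNormal.Main
import Cfsg.Agent.Lib.Transfer.Sylow

/-!
The non-abelian non-normal centralizers cannot occur.
-/

set_option autoImplicit false
set_option linter.style.haveILetI false

open scoped Pointwise

namespace CfsgLib.CentMaxNormal.Setup

variable {N G : Type*} [Group N] [Group G] (S : Setup N G) [Finite N]

/-- The property of an element of being a `p`-element whose centralizer is non-normal and a
`p`-group modulo the centre. -/
structure Local (p : ℕ) (a : N) : Prop where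
  hp : p.Prime
  ha : a ∉ Subgroup.center N
  hpow : ∃ k : ℕ, orderOf a = p ^ k
  nn : ¬ (cen a).Normal
  parts : ∀ y ∈ cen a, ∀ r j : ℕ, r.Prime → r ≠ p → orderOf y = r ^ j → y ∈ Subgroup.center N

variable {p : ℕ} {a : N}

include S in
theorem local_sylow [Fact p.Prime] (h : Local p a) :
    ∃ P : Sylow p (N ⧸ Subgroup.center N),
      (P : Subgroup (N ⧸ Subgroup.center N)) = (cen a).map (QuotientGroup.mk' _) := by
  have hA : IsPGroup p ((cen a).map (QuotientGroup.mk' (Subgroup.center N))) :=
    map_mk_pgroup h.parts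
  obtain ⟨P, hP⟩ := hA.exists_le_sylow
  exact ⟨P, (eq_of_selfNormalizing_le (S.normalizer_map_cen_le h.ha h.nn) P.2 hP).symm⟩

include S in
theorem coprime_map_of_meet [Fact p.Prime] (h : Local p a) {W : Subgroup N} [W.Normal]
    (hW : ∀ y ∈ cen a, y ∈ W → y ∈ Subgroup.center N) :
    (Nat.card ↥(W.map (QuotientGroup.mk' (Subgroup.center N)))).Coprime p := by
  obtain ⟨P, hP⟩ := S.local_sylow h
  refine ((Fact.out : p.Prime).coprime_iff_not_dvd.mpr fun hd => ?_).symm
  obtain ⟨z, hz⟩ := exists_prime_orderOf_dvd_card' p hd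
  rw [← Subgroup.orderOf_coe] at hz
  haveI : (W.map (QuotientGroup.mk' (Subgroup.center N))).Normal :=
    Subgroup.Normal.map inferInstance _ (QuotientGroup.mk'_surjective _)
  have hzp : IsPGroup p (Subgroup.zpowers (z : N ⧸ Subgroup.center N)) :=
    IsPGroup.of_card (n := 1) (by rw [Nat.card_zpowers, hz, pow_one])
  obtain ⟨u, hu⟩ := CfsgLib.Transfer.exists_map_conj_le_sylow hzp P
  have h1 : u * (z : N ⧸ Subgroup.center N) * u⁻¹ ∈ (cen a).map (QuotientGroup.mk' _) :=
    hP ▸ hu ⟨_, Subgroup.mem_zpowers _, rfl⟩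
  obtain ⟨w, hw, hwe⟩ := Subgroup.Normal.conj_mem (H := W.map (QuotientGroup.mk' _))
    inferInstance _ z.2 u
  obtain ⟨y, hy, hye⟩ := h1
  have hwy : w⁻¹ * y ∈ Subgroup.center N := by
    rw [← mk_eq_one_iff, map_mul, map_inv, hye, hwe, inv_mul_cancel]
  have hwa : w ∈ cen a := by
    have := (cen a).mul_mem hy ((cen a).inv_mem (center_le_cen a hwy))
    simpa [mul_assoc] using this
  have h2 := mk_eq_one_iff.mpr (hW w hwa hw)
  rw [hwe, conj_eq_one_iff] at h2
  rw [h2, orderOf_one] at hz
  exact (Fact.out : p.Prime).ne_one hz.symm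

include S in
theorem meet_trivial (h : Local p a) {w : N} {q l : ℕ} (hq : q.Prime) (hqp : q ≠ p)
    (hw : w ∉ Subgroup.center N) (hwl : orderOf w = q ^ l) (hn : (cen w).Normal) :
    ∀ y ∈ cen a, y ∈ cen w → y ∈ Subgroup.center N := by
  intro y hy hyw
  refine mem_of_prime_power_parts fun z hz r j hr hzj => ?_
  by_contra hzc
  have hza : z ∈ cen a := Subgroup.zpowers_le.mpr hy hz
  have hrp : r = p := by
    by_contra hne
    exact hzc (h.parts z hza r j hr hne hzj)
  have hzw : cen z = cen w := S.coprime_cen_eq (mem_cen.mp (Subgroup.zpowers_le.mpr hyw hz))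
    (by rw [hzj, hwl, hrp]; exact Nat.Coprime.pow _ _ ((Nat.coprime_primes h.hp hq).mpr (Ne.symm hqp)))
    hzc hw
  exact hw (h.parts w (mem_cen_comm.mp (hzw ▸ mem_cen_comm.mp hza)) q l hq hqp hwl)

include S in
theorem exists_other (h : Local p a)
    (hnc : ∀ x : N, x ∉ Subgroup.center N → ¬ (cen x).Normal →
      ¬ ∀ m ∈ cen x, ∀ n ∈ cen x, m * n = n * m) :
    ∃ q : ℕ, q ≠ p ∧ ∃ b : N, Local q b := by
  haveI := Fact.mk h.hp
  set π := QuotientGroup.mk' (Subgroup.center N) with hπ
  set H := (cen a).map π with hH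
  by_contra hcon
  push Not at hcon
  -- every noncentral element of order a power of another prime has normal centralizer
  have hnorm : ∀ b : N, b ∉ Subgroup.center N → ∀ q l : ℕ, q.Prime → q ≠ p → orderOf b = q ^ l →
      (cen b).Normal := by
    intro b hb q l hq hqp hbl
    by_contra hnn
    rcases S.dichotomy hb hq hbl with hd | hd
    · exact hnc b hb hnn hd
    · exact hcon q hqp b ⟨hq, hb, ⟨l, hbl⟩, hnn, hd⟩
  -- there is such an element
  obtain ⟨w, hw, q, l, hq, hqp, hwl⟩ : ∃ w : N, w ∉ Subgroup.center N ∧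
      ∃ q l : ℕ, q.Prime ∧ q ≠ p ∧ orderOf w = q ^ l := by
    by_contra hall
    push Not at hall
    have hpg : IsPGroup p ((⊤ : Subgroup N).map π) := map_mk_pgroup fun y _ r j hr hrp hyj => by
      by_contra hy
      exact hall y hy r j hr hrp hyj
    have heq := eq_of_selfNormalizing_le (S.normalizer_map_cen_le h.ha h.nn) hpg
      (Subgroup.map_mono le_top)
    refine S.cen_ne_top h.ha (eq_top_iff.mpr fun n _ => ?_)
    rw [← mk_mem_map_iff (center_le_cen a), heq]
    exact Subgroup.mem_map_of_mem _ (Subgroup.mem_top n)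
  haveI hWn := hnorm w hw q l hq hqp hwl
  have hWinv : S.InvUnder ⊤ (cen w) := S.inv_top_of_normal hw (S.invUnder_cen w)
  have hmeet := S.meet_trivial h hq hqp hw hwl hWn
  by_cases hall : ∀ v : N, v ∉ Subgroup.center N → ∀ r j : ℕ, r.Prime → r ≠ p →
      orderOf v = r ^ j → v ∈ cen w
  · -- `N` modulo `cen w` is a `p`-group
    have hpp : ∀ n : N, ∃ k : ℕ, n ^ p ^ k ∈ cen w := fun n =>
      ⟨_, pow_ordProj_mem n fun y _ r j hr hrp hyj => by
        by_cases hy : y ∈ Subgroup.center N
        · exact center_le_cen _ hy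
        · exact hall y hy r j hr hrp hyj⟩
    have hch := S.chief_pgroup hw hpp
    have hexp : ∀ u ∈ cen a, u ^ p ∈ Subgroup.center N := fun u hu =>
      hmeet _ ((cen a).pow_mem hu p) (hch u u).2
    have hcomm : ∀ u ∈ cen a, ∀ v ∈ cen a, π u * π v = π v * π u := by
      intro u hu v hv
      have h1 : u * v * u⁻¹ * v⁻¹ ∈ Subgroup.center N := hmeet _
        ((cen a).mul_mem ((cen a).mul_mem ((cen a).mul_mem hu hv) ((cen a).inv_mem hu))
          ((cen a).inv_mem hv)) (hch u v).1
      have h2 := mk_eq_one_iff.mpr h1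
      rw [map_mul, map_mul, map_mul, map_inv, map_inv] at h2
      exact commutatorElement_eq_one_iff_commute.mp h2
    set W := (cen w).map π with hWdef
    haveI hWn' : W.Normal := hWn.map π (QuotientGroup.mk'_surjective _)
    have hWcop := S.coprime_map_of_meet h hmeet
    have hWbot : W ≠ ⊥ := map_cen_ne_bot hw
    have hsup : W ⊔ H = ⊤ := by
      rcases S.chief h.ha (le_sup_left : cen a ≤ cen a ⊔ cen w)
        (S.invUnder_sup (S.invUnder_cen a) (S.invUnder_mono le_top hWinv)) with e | e
      · exact absurd (hmeet w (e ▸ Subgroup.mem_sup_right (self_mem_cen w)) (self_mem_cen w)) hw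
      · rw [sup_comm, hH, hWdef, ← Subgroup.map_sup, e, ← MonoidHom.range_eq_map,
          MonoidHom.range_eq_top]
        exact QuotientGroup.mk'_surjective _
    have hdis : Disjoint W H := by
      rw [disjoint_iff, Subgroup.eq_bot_iff_forall]
      rintro z ⟨⟨y, hy, rfl⟩, hz⟩
      replace hz : y ∈ cen a := (mk_mem_map_iff (center_le_cen a)).mp hz
      exact mk_eq_one_iff.mpr (hmeet y hz hy)
    have hc : W.IsComplement' H := Subgroup.isComplement'_of_disjoint_and_mul_eq_univ hdis (by
      rw [← Subgroup.normal_mul, hsup]; rfl)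
    have hfpf : ∀ z ∈ H, z ≠ 1 → W ⊓ Subgroup.centralizer {z} = ⊥ := by
      rintro _ ⟨u, hu, rfl⟩ hu1
      rw [Subgroup.eq_bot_iff_forall]
      rintro _ ⟨⟨y, hy, rfl⟩, hyu⟩
      obtain ⟨u', hu'z, r, j, hr, hu'j, hu'c⟩ : ∃ u' ∈ Subgroup.zpowers u, ∃ r j : ℕ,
          r.Prime ∧ orderOf u' = r ^ j ∧ u' ∉ Subgroup.center N := by
        by_contra hcon'
        push Not at hcon'
        exact hu1 (mk_eq_one_iff.mpr (mem_of_prime_power_parts fun y hy r k hr hyk =>
          hcon' y hy r k hr hyk))
      have hu'a : u' ∈ cen a := Subgroup.zpowers_le.mpr hu hu'z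
      have hrp : r = p := by
        by_contra hne
        exact hu'c (h.parts u' hu'a r j hr hne hu'j)
      subst hrp
      have hyu' : ∀ y' ∈ Subgroup.zpowers y, Commute (π u') (π y') := by
        intro y' hy'
        obtain ⟨i, rfl⟩ := Subgroup.mem_zpowers_iff.mp hu'z
        obtain ⟨k, rfl⟩ := Subgroup.mem_zpowers_iff.mp hy'
        rw [map_zpow, map_zpow]
        exact Commute.zpow_zpow (show Commute (π u) (π y) from (mem_cen.mp hyu).symm) i k
      refine mk_eq_one_iff.mpr (mem_of_prime_power_parts fun y' hy' s i hs hy'i => ?_)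
      by_contra hy'c
      have hy'w : y' ∈ cen w := Subgroup.zpowers_le.mpr hy hy'
      by_cases hsp : s = r
      · subst hsp
        refine hy'c (mk_eq_one_iff.mp ?_)
        rw [← orderOf_eq_one_iff]
        refine Nat.eq_one_of_dvd_coprimes (hWcop.pow_right i) ?_
          (hy'i ▸ orderOf_map_dvd (QuotientGroup.mk' (Subgroup.center N)) y')
        exact Subgroup.orderOf_dvd_natCard (W : Subgroup (N ⧸ Subgroup.center N))
          (Subgroup.mem_map_of_mem _ hy'w)
      · have hcz : u' * y' * u'⁻¹ * y'⁻¹ ∈ Subgroup.center N := by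
          rw [← mk_eq_one_iff, map_mul, map_mul, map_mul, map_inv, map_inv]
          exact commutatorElement_eq_one_iff_commute.mpr (hyu' y' hy')
        set c := u' * y' * u'⁻¹ * y'⁻¹ with hcdef
        have hcc : ∀ g : N, Commute c g := fun g => (Subgroup.mem_center_iff.mp hcz g).symm
        have e1 : c ^ s ^ i = 1 := by
          have := conj_pow (a := u') (b := y') (i := s ^ i)
          rw [show u' * y' * u'⁻¹ = c * y' by rw [hcdef]; group, (hcc y').mul_pow, ← hy'i,
            pow_orderOf_eq_one] at this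
          simpa [← hy'i] using this
        have e2 : c ^ r ^ j = 1 := by
          have := conj_pow (a := y') (b := u'⁻¹) (i := r ^ j)
          rw [show y' * u'⁻¹ * y'⁻¹ = u'⁻¹ * c by rw [hcdef]; group,
            (hcc u'⁻¹).symm.mul_pow, inv_pow, ← hu'j, pow_orderOf_eq_one] at this
          simpa [← hu'j] using this
        have hc1 : c = 1 := by
          rw [← orderOf_eq_one_iff]
          exact Nat.eq_one_of_dvd_coprimes
            (Nat.Coprime.pow i j ((Nat.coprime_primes hs hr).mpr hsp))
            (orderOf_dvd_of_pow_eq_one e1) (orderOf_dvd_of_pow_eq_one e2)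
        have hcom : Commute u' y' := commutatorElement_eq_one_iff_commute.mp hc1
        have heq : cen u' = cen y' := S.coprime_cen_eq hcom
          (by rw [hu'j, hy'i]; exact Nat.Coprime.pow _ _ ((Nat.coprime_primes hr hs).mpr (Ne.symm hsp)))
          hu'c hy'c
        exact hy'c (hmeet y' (mem_cen_comm.mp (heq ▸ mem_cen_comm.mp hu'a)) hy'w)
    have hHp : IsPGroup p H := map_mk_pgroup h.parts
    obtain ⟨Q⟩ := (inferInstance : Nonempty (Sylow p H))
    have hQtop : (Q : Subgroup H) = ⊤ :=
      (Q.3 (Q := ⊤) (hHp.to_subgroup ⊤) le_top).symm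
    have hcyc : IsCyclic H := by
      have hHexp : ∀ z : H, z ^ p = 1 := by
        rintro ⟨_, u, hu, rfl⟩
        exact Subtype.ext (by
          rw [SubmonoidClass.coe_pow, ← map_pow, Subgroup.coe_one]
          exact mk_eq_one_iff.mpr (hexp u hu))
      rcases Cfsg.Agent.S0040.result W H hc hWbot hfpf p Q with hQ | ⟨n, ⟨e⟩⟩
      · have e : (Q : Subgroup H) ≃* H := (MulEquiv.subgroupCongr hQtop).trans Subgroup.topEquiv
        exact isCyclic_of_surjective e.toMonoidHom e.surjective
      · exfalso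
        haveI : NeZero (2 ^ n) := ⟨by positivity⟩
        have h4 := QuaternionGroup.orderOf_xa (n := 2 ^ n) 0
        rw [← orderOf_injective e.symm.toMonoidHom e.symm.injective, ← Subgroup.orderOf_coe] at h4
        have h5 := orderOf_dvd_of_pow_eq_one (hHexp (e.symm (QuaternionGroup.xa 0) : H))
        simp only [MulEquiv.coe_toMonoidHom] at h4
        rw [h4] at h5
        rcases (Nat.dvd_prime h.hp).mp h5 with h6 | h6
        · omega
        · exact absurd (h6 ▸ h.hp) (by norm_num)
    obtain ⟨⟨_, u0, hu0, rfl⟩, hgen⟩ := hcyc.exists_generator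
    refine hnc a h.ha h.nn fun m hm n hn => ?_
    have hdec : ∀ m ∈ cen a, ∃ (i : ℤ) (z : N), z ∈ Subgroup.center N ∧ m = u0 ^ i * z := by
      intro m hm
      obtain ⟨i, hi⟩ := Subgroup.mem_zpowers_iff.mp (hgen ⟨_, Subgroup.mem_map_of_mem π hm⟩)
      refine ⟨i, (u0 ^ i)⁻¹ * m, ?_, by group⟩
      rw [← mk_eq_one_iff, map_mul, map_inv, map_zpow]
      have hi' := congrArg Subtype.val hi
      rw [SubgroupClass.coe_zpow] at hi'
      rw [← hπ, hi', inv_mul_cancel]
    obtain ⟨i, z, hz, rfl⟩ := hdec m hm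
    obtain ⟨k, z', hz', rfl⟩ := hdec n hn
    have hz1 : ∀ g : N, Commute z g := fun g => (Subgroup.mem_center_iff.mp hz g).symm
    have hz2 : ∀ g : N, Commute z' g := fun g => (Subgroup.mem_center_iff.mp hz' g).symm
    exact (((Commute.refl u0).zpow_zpow i k).mul_right (hz2 _).symm).mul_left (hz1 _)
  · -- two normal `p'`-subgroups generating everything
    push Not at hall
    obtain ⟨v, hv, r, j, hr, hrp, hvj, hvw⟩ := hall
    haveI hVn := hnorm v hv r j hr hrp hvj
    have hVinv : S.InvUnder ⊤ (cen v) := S.inv_top_of_normal hv (S.invUnder_cen v)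
    have htop : cen w ⊔ cen v = ⊤ :=
      (S.chief hw le_sup_left (S.invUnder_mono le_top (S.invUnder_sup hWinv hVinv))).resolve_left
        fun e => hvw (e ▸ Subgroup.mem_sup_right (self_mem_cen v))
    have hcop := CfsgLib.Transfer.coprime_card_sup_of_normal
      (A := (cen w).map π) (B := (cen v).map π)
      (hWn.map π (QuotientGroup.mk'_surjective _))
      (S.coprime_map_of_meet h hmeet)
      (S.coprime_map_of_meet h (S.meet_trivial h hr hrp hv hvj hVn))
    rw [← Subgroup.map_sup, htop, ← MonoidHom.range_eq_map,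
      MonoidHom.range_eq_top.mpr (QuotientGroup.mk'_surjective _), Subgroup.card_top] at hcop
    obtain ⟨P, hP⟩ := S.local_sylow h
    exact (h.hp.coprime_iff_not_dvd.mp hcop.symm)
      ((P.2.card_eq_or_dvd.resolve_left fun e => map_cen_ne_bot h.ha (hP ▸ Subgroup.card_eq_one.mp e)).trans
        (Subgroup.card_subgroup_dvd_card _))

end CfsgLib.CentMaxNormal.Setup
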