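import Mathlib
import Cfsg.Agent.Lib.CentMaxNormal.Final

/-!
The structure theorem for a normal subgroup with maximal centralizers of noncentral elements.
-/

set_option autoImplicit false
set_option linter.style.haveILetI false

open scoped Pointwise

namespace CfsgLib.CentMaxNormal.Setup

variable {N G : Type*} [Group N] [Group G] (S : Setup N G) [Finite N]

include S in
theorem no_two_locals {p q : ℕ} {a b : N} (hpa : Local p a) (hqb : Local q b) (hqp : q ≠ p)
    (hodd : p ≠ 2) : False := by
  haveI := Fact.mk hpa.hp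
  haveI := Fact.mk hqb.hp
  obtain ⟨P, hP⟩ := S.local_sylow hpa
  obtain ⟨Q, hQ⟩ := S.local_sylow hqb
  set π := QuotientGroup.mk' (Subgroup.center N) with hπ
  have hPne : (P : Subgroup (N ⧸ Subgroup.center N)) ≠ ⊥ := hP ▸ map_cen_ne_bot hpa.ha
  have hstabP : S.Stable (cen (S.i a)) (P : Subgroup (N ⧸ Subgroup.center N)) :=
    hP ▸ S.stable_map (S.invUnder_cen a)
  -- no normal `p`-subgroup stable under `cen (i a)`
  have hno : ∀ R : Subgroup (N ⧸ Subgroup.center N), R.Normal → IsPGroup p R →
      S.Stable (cen (S.i a)) R → R = ⊥ := by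
    intro R hRn hRp hRs
    haveI := hRn
    haveI : (R.comap π).Normal := hRn.comap π
    have hRinv : S.InvUnder ⊤ (R.comap π) := S.inv_top_of_normal hpa.ha (S.invUnder_comap hRs)
    have hdis : Disjoint R (Q : Subgroup (N ⧸ Subgroup.center N)) :=
      IsPGroup.disjoint_of_ne p q (Ne.symm hqp) _ _ hRp Q.2
    rcases S.chief hqb.ha (le_sup_left : cen b ≤ cen b ⊔ R.comap π)
      (S.invUnder_sup (S.invUnder_cen b) (S.invUnder_mono le_top hRinv)) with e | e
    · have hle : R ≤ (Q : Subgroup (N ⧸ Subgroup.center N)) := by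
        rw [hQ, ← Subgroup.map_comap_eq_self_of_surjective (QuotientGroup.mk'_surjective _) R]
        exact Subgroup.map_mono (le_sup_right.trans e.le)
      exact disjoint_self.mp (hdis.mono_right hle)
    · exfalso
      have hsup : R ⊔ (Q : Subgroup (N ⧸ Subgroup.center N)) = ⊤ := by
        rw [hQ, sup_comm]
        conv_lhs => rw [← Subgroup.map_comap_eq_self_of_surjective
          (QuotientGroup.mk'_surjective _) R]
        rw [← Subgroup.map_sup, ← hπ, e, ← MonoidHom.range_eq_map, MonoidHom.range_eq_top]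
        exact QuotientGroup.mk'_surjective _
      have hRP : R ≤ (P : Subgroup (N ⧸ Subgroup.center N)) :=
        (le_sup_left : R ≤ R ⊔ (P : Subgroup (N ⧸ Subgroup.center N))).trans
          (P.3 (hRp.to_sup_of_normal_left P.2) le_sup_right).le
      have hPR : (P : Subgroup (N ⧸ Subgroup.center N)) ≤ R := by
        intro z hz
        obtain ⟨r, hr, s, hs, rfl⟩ := Subgroup.mem_sup_of_normal_left.mp
          (hsup.symm ▸ Subgroup.mem_top z : z ∈ R ⊔ (Q : Subgroup (N ⧸ Subgroup.center N)))
        have hs' : s ∈ (P : Subgroup (N ⧸ Subgroup.center N)) := by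
          simpa using mul_mem (inv_mem (hRP hr)) hz
        have hs1 : s = 1 := Subgroup.mem_bot.mp
          ((IsPGroup.disjoint_of_ne p q (Ne.symm hqp) _ _ P.2 Q.2).eq_bot ▸
            (⟨hs', hs⟩ : s ∈ (P : Subgroup (N ⧸ Subgroup.center N)) ⊓
              (Q : Subgroup (N ⧸ Subgroup.center N))))
        rwa [hs1, mul_one]
      have hPn : (P : Subgroup (N ⧸ Subgroup.center N)).Normal := le_antisymm hPR hRP ▸ hRn
      refine hpa.nn ?_
      have h1 : ((P : Subgroup (N ⧸ Subgroup.center N)).comap π).Normal := hPn.comap π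
      rwa [hP, Subgroup.comap_map_eq_self (by rw [hπ, QuotientGroup.ker_mk']; exact center_le_cen a)]
        at h1
  -- stable subgroups above `P`
  have habove : ∀ B : Subgroup (N ⧸ Subgroup.center N), (P : Subgroup (N ⧸ Subgroup.center N)) ≤ B →
      S.Stable (cen (S.i a)) B → B = (P : Subgroup (N ⧸ Subgroup.center N)) ∨ B = ⊤ := by
    intro B hle hs
    have hle' : cen a ≤ B.comap π := by
      rw [← Subgroup.map_le_iff_le_comap, ← hP]; exact hle
    rw [← Subgroup.map_comap_eq_self_of_surjective (QuotientGroup.mk'_surjective _) B, ← hπ, hP]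
    rcases S.chief hpa.ha hle' (S.invUnder_comap hs) with e | e
    · exact Or.inl (by rw [e])
    · right
      rw [e, ← MonoidHom.range_eq_map, MonoidHom.range_eq_top]
      exact QuotientGroup.mk'_surjective _
  set J := CfsgLib.Transfer.thompsonJ p (P : Subgroup (N ⧸ Subgroup.center N)) with hJ
  have hJs : S.Stable (cen (S.i a)) J := fun g hg => by
    rw [hJ, CfsgLib.Transfer.map_thompsonJ p (S.τ g) (S.τ_injective g).injOn, hstabP g hg]
  have hPp := CfsgLib.Transfer.hasNormalPComplement_of_isPGroup P.2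
  have hHyp : CfsgLib.Transfer.ThompsonHyp p p (P : Subgroup (N ⧸ Subgroup.center N)) := by
    constructor
    · rcases habove _ (Subgroup.le_normalizer.trans
        (CfsgLib.Transfer.normalizer_le_normalizer_thompsonJ p _)) (S.stable_normalizer hJs) with e | e
      · rwa [e]
      · exfalso
        exact CfsgLib.Transfer.thompsonJ_ne_bot dvd_rfl P.2 hPne
          (hno J (Subgroup.normalizer_eq_top_iff.mp e)
            (P.2.to_le (CfsgLib.Transfer.thompsonJ_le _ _)) hJs)
    · set Zp := (P : Subgroup (N ⧸ Subgroup.center N)) ⊓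
        Subgroup.centralizer ((P : Subgroup (N ⧸ Subgroup.center N)) : Set (N ⧸ Subgroup.center N))
        with hZp
      have hZs : S.Stable (cen (S.i a)) Zp := S.stable_inf hstabP (S.stable_centralizer hstabP)
      rcases habove _ (fun z hz => Subgroup.mem_centralizer_iff.mpr fun y hy =>
          ((Subgroup.mem_centralizer_iff.mp hy.2) z hz).symm) (S.stable_centralizer hZs) with e | e
      · rwa [e]
      · exfalso
        have hbot : Zp = ⊥ := hno Zp ⟨fun z hz g => by
          have hc : g ∈ Subgroup.centralizer (Zp : Set (N ⧸ Subgroup.center N)) := e ▸ Subgroup.mem_top g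
          rwa [← Subgroup.mem_centralizer_iff.mp hc z hz, mul_inv_cancel_right]⟩
          (P.2.to_le inf_le_left) hZs
        haveI : Nontrivial (P : Subgroup (N ⧸ Subgroup.center N)) :=
          (Subgroup.nontrivial_iff_ne_bot _).mpr hPne
        haveI := P.2.center_nontrivial
        obtain ⟨⟨z, hz⟩, hz1⟩ := exists_ne (1 : Subgroup.center (P : Subgroup (N ⧸ Subgroup.center N)))
        refine hz1 (Subtype.ext (Subtype.ext (Subgroup.mem_bot.mp (hbot ▸ (⟨z.2, ?_⟩ : (z : N ⧸ Subgroup.center N) ∈ Zp)))))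
        exact Subgroup.mem_centralizer_iff.mpr fun y hy =>
          congrArg Subtype.val (Subgroup.mem_center_iff.mp hz ⟨y, hy⟩)
  obtain ⟨P', K, hKn, hKc⟩ :=
    CfsgLib.Transfer.thompson_normal_complement dvd_rfl (Or.inl hodd) P hHyp
  haveI := hKn
  have hQK : (Q : Subgroup (N ⧸ Subgroup.center N)) ≤ K := by
    intro z hz
    rw [CfsgLib.Transfer.mem_iff_coprime_orderOf
      (CfsgLib.Transfer.coprime_card_of_isComplement' hKc)
      (CfsgLib.Transfer.isPGroup_quotient_of_isComplement' hKc)]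
    obtain ⟨k, hk⟩ := IsPGroup.iff_orderOf.mp Q.2 ⟨z, hz⟩
    rw [← Subgroup.orderOf_coe] at hk
    change (orderOf z).Coprime p
    rw [show orderOf z = q ^ k from hk]
    exact ((Nat.coprime_primes hqb.hp hpa.hp).mpr hqp).pow_left k
  have htop := Q.normalizer_sup_eq_top' hQK
  have hnle : Subgroup.normalizer (Q : Set (N ⧸ Subgroup.center N)) ≤ K := by
    refine le_trans ?_ hQK
    change Subgroup.normalizer ((Q : Subgroup (N ⧸ Subgroup.center N)) : Set (N ⧸ Subgroup.center N)) ≤ _
    rw [hQ]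
    exact S.normalizer_map_cen_le hqb.ha hqb.nn
  rw [sup_eq_right.mpr hnle] at htop
  have hP' : (P' : Subgroup (N ⧸ Subgroup.center N)) = ⊥ := by
    have := hKc.disjoint
    rwa [htop, top_disjoint] at this
  refine hPne (Subgroup.card_eq_one.mp ?_)
  rw [P.card_eq_multiplicity, ← P'.card_eq_multiplicity, hP', Subgroup.card_bot]

include S in
/-- **The structure theorem.** -/
theorem main :
    (∃ p : ℕ, p.Prime ∧ (∀ a b : N, a * b * a⁻¹ * b⁻¹ ∈ Subgroup.center N) ∧
      ∀ a : N, a ^ p ∈ Subgroup.center N) ∨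
    ∃ x : N, x ∉ Subgroup.center N ∧ ∃ (K : Subgroup (N ⧸ Subgroup.center N)) (p : ℕ), p.Prime ∧
      Cfsg.IsFrobeniusComplement ((cen x).map (QuotientGroup.mk' (Subgroup.center N))) ∧
      (Nat.card ↥((cen x).map (QuotientGroup.mk' (Subgroup.center N)))).Prime ∧
      K.Normal ∧ (K : Set (N ⧸ Subgroup.center N)) =
        Cfsg.frobeniusKernel ((cen x).map (QuotientGroup.mk' (Subgroup.center N))) ∧
      K.IsComplement' ((cen x).map (QuotientGroup.mk' (Subgroup.center N))) ∧
      Cfsg.IsElementaryAbelian p K := by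
  by_cases hall : ∀ x : N, x ∉ Subgroup.center N → (cen x).Normal
  · exact Or.inl (S.elementary_of_all_normal hall)
  push Not at hall
  obtain ⟨x, hx, hnn⟩ := hall
  right
  by_cases hcm : ∃ y : N, y ∉ Subgroup.center N ∧ ¬ (cen y).Normal ∧
      ∀ m ∈ cen y, ∀ n ∈ cen y, m * n = n * m
  · obtain ⟨y, hy, hynn, hyc⟩ := hcm
    exact ⟨y, hy, S.frobenius_case hy hynn hyc⟩
  exfalso
  have hnc : ∀ z : N, z ∉ Subgroup.center N → ¬ (cen z).Normal →
      ¬ ∀ m ∈ cen z, ∀ n ∈ cen z, m * n = n * m := fun z h1 h2 h3 => hcm ⟨z, h1, h2, h3⟩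
  obtain ⟨a, -, ha, hae, p, k, hp, hak⟩ := S.exists_prime_power hx
  have hloc : Local p a := ⟨hp, ha, ⟨k, hak⟩, hae ▸ hnn,
    (S.dichotomy ha hp hak).resolve_left (hnc a ha (hae ▸ hnn))⟩
  obtain ⟨q, hqp, b, hb⟩ := S.exists_other hloc hnc
  by_cases h2 : p = 2
  · exact S.no_two_locals hb hloc (Ne.symm hqp) (h2 ▸ hqp)
  · exact S.no_two_locals hloc hb hqp h2

end CfsgLib.CentMaxNormal.Setup
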